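import Mathlib
import Groth.Prelude.Def_W4stkflatp2Cpct
import Groth.Agent.Lib.Lead.DF.Gabriel

/-! # The category of compactifications: right calculus of fractions and localization -/

set_option autoImplicit false
universe u
open CategoryTheory Limits AlgebraicGeometry

namespace Groth.Agent.LD.CpctLoc
open Cpct

variable {S : Scheme.{u}}

theorem restr_comp_ι {A B : Pair S} (f : A ⟶ B) :
    restr f ≫ B.U.ι = A.U.ι ≫ (Pair.Hom.bar f).left :=
  Scheme.Hom.resLE_comp_ι _ _

theorem restr_id (A : Pair S) : restr (𝟙 A) = 𝟙 _ := by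
  rw [← cancel_mono A.U.ι, restr_comp_ι]
  simp

theorem restr_comp {A B C : Pair S} (f : A ⟶ B) (g : B ⟶ C) :
    restr (f ≫ g) = restr f ≫ restr g := by
  rw [← cancel_mono C.U.ι, restr_comp_ι, Category.assoc, restr_comp_ι, ← Category.assoc,
    restr_comp_ι, Category.assoc]
  rfl

instance isMultiplicative : (isoOpen S).IsMultiplicative where
  id_mem A := by
    change IsIso (restr (𝟙 A))
    rw [restr_id]
    infer_instance
  comp_mem f g hf hg := by
    change IsIso (restr (f ≫ g))
    rw [restr_comp]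
    haveI : IsIso (restr f) := hf
    haveI : IsIso (restr g) := hg
    infer_instance

/-- two morphisms of compactifications with the same open part are equalized by a morphism
in `isoOpen`. -/
theorem exists_equalizing {A B : Pair S} (a b : A ⟶ B) (h : restr a = restr b) :
    ∃ (A' : Pair S) (w : A' ⟶ A), isoOpen S w ∧ w ≫ a = w ≫ b := by
  haveI := B.isProper
  haveI := A.isProper
  haveI : IsClosedImmersion (equalizer.ι (Pair.Hom.bar a) (Pair.Hom.bar b)).left :=
    inferInstance
  have hE : (equalizer (Pair.Hom.bar a) (Pair.Hom.bar b)).hom =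
      (equalizer.ι (Pair.Hom.bar a) (Pair.Hom.bar b)).left ≫ A.bar.hom :=
    (Over.w (equalizer.ι (Pair.Hom.bar a) (Pair.Hom.bar b))).symm
  let A' : Pair S :=
    { bar := equalizer (Pair.Hom.bar a) (Pair.Hom.bar b)
      U := (equalizer.ι (Pair.Hom.bar a) (Pair.Hom.bar b)).left ⁻¹ᵁ A.U
      isProper := by rw [hE]; infer_instance
      isCompact := Scheme.Hom.isCompact_preimage _ A.isCompact }
  let w : A' ⟶ A := ⟨equalizer.ι (Pair.Hom.bar a) (Pair.Hom.bar b), fun x hx => hx⟩
  refine ⟨A', w, ?_, ?_⟩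
  · change IsIso (restr w)
    have heq : A.U.ι ≫ (Pair.Hom.bar a).left = A.U.ι ≫ (Pair.Hom.bar b).left := by
      rw [← restr_comp_ι, ← restr_comp_ι, h]
    let t : Over.mk (A.U.ι ≫ A.bar.hom) ⟶ A.bar := Over.homMk A.U.ι rfl
    have ht : t ≫ Pair.Hom.bar a = t ≫ Pair.Hom.bar b := by
      ext1
      exact heq
    have hl : (equalizer.lift t ht).left ≫
        (equalizer.ι (Pair.Hom.bar a) (Pair.Hom.bar b)).left = A.U.ι :=
      congrArg CommaMorphism.left (equalizer.lift_ι t ht)
    have hrange : Set.range (equalizer.lift t ht).left ⊆ Set.range A'.U.ι := by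
      rintro _ ⟨x, rfl⟩
      rw [Scheme.Opens.range_ι]
      change (equalizer.ι (Pair.Hom.bar a) (Pair.Hom.bar b)).left
        ((equalizer.lift t ht).left x) ∈ A.U
      rw [← Scheme.Hom.comp_apply, hl]
      exact x.2
    have hl' : IsOpenImmersion.lift A'.U.ι (equalizer.lift t ht).left hrange ≫ A'.U.ι =
        (equalizer.lift t ht).left := IsOpenImmersion.lift_fac _ _ _
    have hw : restr w ≫ A.U.ι = A'.U.ι ≫ (equalizer.ι (Pair.Hom.bar a) (Pair.Hom.bar b)).left :=
      restr_comp_ι w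
    refine ⟨⟨IsOpenImmersion.lift A'.U.ι (equalizer.lift t ht).left hrange, ?_, ?_⟩⟩
    · have e1 : IsOpenImmersion.lift A'.U.ι (equalizer.lift t ht).left hrange ≫ A'.U.ι ≫
          (equalizer.ι (Pair.Hom.bar a) (Pair.Hom.bar b)).left = A.U.ι := by
        rw [← Category.assoc, hl', hl]
      rw [← cancel_mono A'.U.ι,
        ← cancel_mono (equalizer.ι (Pair.Hom.bar a) (Pair.Hom.bar b)).left]
      simp only [Category.assoc, Category.id_comp]
      rw [e1, hw]
    · rw [← cancel_mono A.U.ι, Category.assoc, hw, ← Category.assoc, hl', hl, Category.id_comp]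
  · apply Pair.Hom.ext
    exact equalizer.condition _ _

/-- the right Ore condition for `isoOpen`. -/
theorem exists_rightFraction' [QuasiSeparatedSpace S] {A B C : Pair S} (f : A ⟶ C) (s : B ⟶ C)
    (hs : isoOpen S s) :
    ∃ (A' : Pair S) (s' : A' ⟶ A) (f' : A' ⟶ B), isoOpen S s' ∧ s' ≫ f = f' ≫ s := by
  haveI := A.isProper
  haveI := B.isProper
  haveI := C.isProper
  haveI : IsIso (restr s) := hs
  have hf : (Pair.Hom.bar f).left ≫ C.bar.hom = A.bar.hom := Over.w _
  have hs' : (Pair.Hom.bar s).left ≫ C.bar.hom = B.bar.hom := Over.w _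
  haveI : IsProper (Pair.Hom.bar s).left := by
    haveI : IsProper ((Pair.Hom.bar s).left ≫ C.bar.hom) := by rw [hs']; infer_instance
    exact IsProper.of_comp _ C.bar.hom
  haveI : IsProper (Pair.Hom.bar f).left := by
    haveI : IsProper ((Pair.Hom.bar f).left ≫ C.bar.hom) := by rw [hf]; infer_instance
    exact IsProper.of_comp _ C.bar.hom
  haveI : QuasiSeparatedSpace ↥(pullback (Pair.Hom.bar f).left (Pair.Hom.bar s).left) :=
    quasiSeparatedSpace_of_quasiSeparated
      (pullback.fst (Pair.Hom.bar f).left (Pair.Hom.bar s).left ≫ A.bar.hom)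
  have hcomp : IsCompact
      ((pullback.fst (Pair.Hom.bar f).left (Pair.Hom.bar s).left ⁻¹ᵁ A.U ⊓
        pullback.snd (Pair.Hom.bar f).left (Pair.Hom.bar s).left ⁻¹ᵁ B.U :
        (pullback (Pair.Hom.bar f).left (Pair.Hom.bar s).left).Opens) :
        Set ↥(pullback (Pair.Hom.bar f).left (Pair.Hom.bar s).left)) :=
    QuasiSeparatedSpace.inter_isCompact _ _ (TopologicalSpace.Opens.isOpen _)
      (Scheme.Hom.isCompact_preimage _ A.isCompact) (TopologicalSpace.Opens.isOpen _)
      (Scheme.Hom.isCompact_preimage _ B.isCompact)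
  let A' : Pair S :=
    { bar := Over.mk (pullback.fst (Pair.Hom.bar f).left (Pair.Hom.bar s).left ≫ A.bar.hom)
      U := pullback.fst (Pair.Hom.bar f).left (Pair.Hom.bar s).left ⁻¹ᵁ A.U ⊓
        pullback.snd (Pair.Hom.bar f).left (Pair.Hom.bar s).left ⁻¹ᵁ B.U
      isProper := by dsimp only [Over.mk_hom]; infer_instance
      isCompact := hcomp }
  let s'' : A' ⟶ A :=
    ⟨Over.homMk (pullback.fst (Pair.Hom.bar f).left (Pair.Hom.bar s).left) rfl,
      fun x hx => hx.1⟩
  let f' : A' ⟶ B :=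
    ⟨Over.homMk (pullback.snd (Pair.Hom.bar f).left (Pair.Hom.bar s).left) (by
      change pullback.snd (Pair.Hom.bar f).left (Pair.Hom.bar s).left ≫ B.bar.hom =
        pullback.fst (Pair.Hom.bar f).left (Pair.Hom.bar s).left ≫ A.bar.hom
      rw [← hs', ← hf, ← Category.assoc, ← Category.assoc, pullback.condition]),
      fun x hx => hx.2⟩
  have hcomm : s'' ≫ f = f' ≫ s := by
    apply Pair.Hom.ext
    ext1
    exact pullback.condition
  refine ⟨A', s'', f', ?_, hcomm⟩
  change IsIso (restr s'')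
  have hw1 : restr s'' ≫ A.U.ι =
      A'.U.ι ≫ pullback.fst (Pair.Hom.bar f).left (Pair.Hom.bar s).left := restr_comp_ι s''
  have hw2 : restr f' ≫ B.U.ι =
      A'.U.ι ≫ pullback.snd (Pair.Hom.bar f).left (Pair.Hom.bar s).left := restr_comp_ι f'
  have hkey : restr s'' ≫ restr f ≫ inv (restr s) = restr f' := by
    have h1 : restr s'' ≫ restr f = restr f' ≫ restr s := by
      rw [← restr_comp, ← restr_comp, hcomm]
    rw [← Category.assoc, h1, Category.assoc, IsIso.hom_inv_id, Category.comp_id]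
  have hcond : A.U.ι ≫ (Pair.Hom.bar f).left =
      (restr f ≫ inv (restr s) ≫ B.U.ι) ≫ (Pair.Hom.bar s).left := by
    rw [← restr_comp_ι f, Category.assoc, Category.assoc, ← restr_comp_ι s,
      IsIso.inv_hom_id_assoc]
  have hl1 : pullback.lift A.U.ι (restr f ≫ inv (restr s) ≫ B.U.ι) hcond ≫
      pullback.fst (Pair.Hom.bar f).left (Pair.Hom.bar s).left = A.U.ι := pullback.lift_fst _ _ _
  have hl2 : pullback.lift A.U.ι (restr f ≫ inv (restr s) ≫ B.U.ι) hcond ≫
      pullback.snd (Pair.Hom.bar f).left (Pair.Hom.bar s).left =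
      restr f ≫ inv (restr s) ≫ B.U.ι := pullback.lift_snd _ _ _
  have hrange : Set.range (pullback.lift A.U.ι (restr f ≫ inv (restr s) ≫ B.U.ι) hcond) ⊆
      Set.range A'.U.ι := by
    rintro _ ⟨x, rfl⟩
    rw [Scheme.Opens.range_ι]
    constructor
    · change pullback.fst (Pair.Hom.bar f).left (Pair.Hom.bar s).left
        (pullback.lift A.U.ι (restr f ≫ inv (restr s) ≫ B.U.ι) hcond x) ∈ A.U
      rw [← Scheme.Hom.comp_apply, hl1]
      exact x.2
    · change pullback.snd (Pair.Hom.bar f).left (Pair.Hom.bar s).left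
        (pullback.lift A.U.ι (restr f ≫ inv (restr s) ≫ B.U.ι) hcond x) ∈ B.U
      rw [← Scheme.Hom.comp_apply, hl2, ← Category.assoc, Scheme.Hom.comp_apply]
      exact ((restr f ≫ inv (restr s)) x).2
  have hl' : IsOpenImmersion.lift A'.U.ι
      (pullback.lift A.U.ι (restr f ≫ inv (restr s) ≫ B.U.ι) hcond) hrange ≫ A'.U.ι =
      pullback.lift A.U.ι (restr f ≫ inv (restr s) ≫ B.U.ι) hcond :=
    IsOpenImmersion.lift_fac _ _ _
  refine ⟨⟨IsOpenImmersion.lift A'.U.ι
      (pullback.lift A.U.ι (restr f ≫ inv (restr s) ≫ B.U.ι) hcond) hrange, ?_, ?_⟩⟩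
  · rw [← cancel_mono A'.U.ι, Category.assoc, hl', Category.id_comp]
    apply pullback.hom_ext
    · rw [Category.assoc, hl1, hw1]
    · rw [Category.assoc, hl2, ← hw2, ← hkey]
      simp only [Category.assoc]
  · rw [← cancel_mono A.U.ι, Category.assoc, hw1, ← Category.assoc, hl', hl1, Category.id_comp]

instance hasRightCalculusOfFractions [QuasiSeparatedSpace S] :
    (isoOpen S).HasRightCalculusOfFractions where
  exists_rightFraction A B φ := by
    obtain ⟨A', s', f', hs', hc⟩ := exists_rightFraction' φ.f φ.s φ.hs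
    exact ⟨⟨s', hs', f'⟩, hc⟩
  ext A B B' f₁ f₂ s hs h := by
    haveI : IsIso (restr s) := hs
    have h1 : restr f₁ = restr f₂ := by
      rw [← cancel_mono (restr s), ← restr_comp, ← restr_comp, h]
    obtain ⟨A', w, hw, hc⟩ := exists_equalizing f₁ f₂ h1
    exact ⟨A', w, hw, hc⟩

theorem isInvertedBy : (isoOpen S).IsInvertedBy (openFunctor S) := by
  intro A B s hs
  haveI : IsIso (restr s) := hs
  rw [← ObjectProperty.isIso_hom_iff]
  change IsIso (openOver.map s)
  haveI : IsIso ((Over.forget S).map (openOver.map s)) := (inferInstance : IsIso (restr s))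
  exact isIso_of_reflects_iso _ (Over.forget S)

instance essSurj : (openFunctor S).EssSurj where
  mem_essImage X := by
    obtain ⟨A, ⟨e⟩⟩ := X.property
    exact ⟨A, ⟨ObjectProperty.isoMk _ e⟩⟩

/-- every morphism between the open parts is a right fraction. -/
theorem exists_fraction [QuasiSeparatedSpace S] (A B : Pair S)
    (φ : (openFunctor S).obj A ⟶ (openFunctor S).obj B) :
    ∃ (A' : Pair S) (s : A' ⟶ A) (_ : isoOpen S s) (φ' : A' ⟶ B),
      (openFunctor S).map φ' = (openFunctor S).map s ≫ φ := by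
  haveI := A.isProper
  haveI := B.isProper
  obtain ⟨v, hw, rfl⟩ : ∃ (v : (A.U : Scheme.{u}) ⟶ (B.U : Scheme.{u}))
      (hw : v ≫ B.U.ι ≫ B.bar.hom = A.U.ι ≫ A.bar.hom),
      φ = ObjectProperty.homMk (Over.homMk v hw) := by
    refine ⟨φ.hom.left, Over.w φ.hom, ?_⟩
    apply ObjectProperty.hom_ext
    ext1
    rfl
  have hcond : A.U.ι ≫ A.bar.hom = (v ≫ B.U.ι) ≫ B.bar.hom := by
    rw [Category.assoc]; exact hw.symm
  obtain ⟨Γ, hΓ⟩ : ∃ Γ : (A.U : Scheme.{u}) ⟶ pullback A.bar.hom B.bar.hom,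
      Γ = pullback.lift A.U.ι (v ≫ B.U.ι) hcond := ⟨_, rfl⟩
  have hΓ1 : Γ ≫ pullback.fst A.bar.hom B.bar.hom = A.U.ι := by
    rw [hΓ]; exact pullback.lift_fst _ _ _
  have hΓ2 : Γ ≫ pullback.snd A.bar.hom B.bar.hom = v ≫ B.U.ι := by
    rw [hΓ]; exact pullback.lift_snd _ _ _
  haveI : IsImmersion Γ := by
    haveI : IsImmersion (Γ ≫ pullback.fst A.bar.hom B.bar.hom) := by rw [hΓ1]; infer_instance
    exact IsImmersion.of_comp Γ (pullback.fst A.bar.hom B.bar.hom)
  haveI : CompactSpace ↥(A.U : Scheme.{u}) := isCompact_iff_compactSpace.mp A.isCompact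
  haveI : QuasiSeparatedSpace ↥(pullback A.bar.hom B.bar.hom) :=
    quasiSeparatedSpace_of_quasiSeparated (pullback.fst A.bar.hom B.bar.hom ≫ A.bar.hom)
  haveI : QuasiCompact Γ := inferInstance
  have hti : Γ.toImage ≫ Γ.imageι = Γ := Γ.toImage_imageι
  let A' : Pair S :=
    { bar := Over.mk (Γ.imageι ≫ pullback.fst A.bar.hom B.bar.hom ≫ A.bar.hom)
      U := Γ.toImage.opensRange
      isProper := by dsimp only [Over.mk_hom]; infer_instance
      isCompact := by
        change IsCompact (Set.range Γ.toImage)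
        exact isCompact_range Γ.toImage.continuous }
  let s : A' ⟶ A :=
    ⟨Over.homMk (Γ.imageι ≫ pullback.fst A.bar.hom B.bar.hom) (by
        change (Γ.imageι ≫ pullback.fst A.bar.hom B.bar.hom) ≫ A.bar.hom =
          Γ.imageι ≫ pullback.fst A.bar.hom B.bar.hom ≫ A.bar.hom
        rw [Category.assoc]), by
      rintro x ⟨y, rfl⟩
      change (Γ.imageι ≫ pullback.fst A.bar.hom B.bar.hom) (Γ.toImage y) ∈ A.U
      rw [← Scheme.Hom.comp_apply, ← Category.assoc, hti, hΓ1]
      exact y.2⟩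
  let φ' : A' ⟶ B :=
    ⟨Over.homMk (Γ.imageι ≫ pullback.snd A.bar.hom B.bar.hom) (by
        change (Γ.imageι ≫ pullback.snd A.bar.hom B.bar.hom) ≫ B.bar.hom =
          Γ.imageι ≫ pullback.fst A.bar.hom B.bar.hom ≫ A.bar.hom
        rw [Category.assoc, ← pullback.condition]), by
      rintro x ⟨y, rfl⟩
      change (Γ.imageι ≫ pullback.snd A.bar.hom B.bar.hom) (Γ.toImage y) ∈ B.U
      rw [← Scheme.Hom.comp_apply, ← Category.assoc, hti, hΓ2, Scheme.Hom.comp_apply]
      exact (v y).2⟩
  have he : Γ.toImage.isoOpensRange.hom ≫ A'.U.ι = Γ.toImage :=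
    Scheme.Hom.isoOpensRange_hom_ι Γ.toImage
  have hs1 : restr s ≫ A.U.ι = A'.U.ι ≫ Γ.imageι ≫ pullback.fst A.bar.hom B.bar.hom :=
    restr_comp_ι s
  have hφ1 : restr φ' ≫ B.U.ι = A'.U.ι ≫ Γ.imageι ≫ pullback.snd A.bar.hom B.bar.hom :=
    restr_comp_ι φ'
  have he1 : Γ.toImage.isoOpensRange.hom ≫ restr s = 𝟙 _ := by
    rw [← cancel_mono A.U.ι, Category.assoc, hs1, ← Category.assoc, he, ← Category.assoc, hti,
      hΓ1, Category.id_comp]
  have hs2 : restr s = Γ.toImage.isoOpensRange.inv := by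
    rw [← cancel_epi Γ.toImage.isoOpensRange.hom, he1, Iso.hom_inv_id]
  have hWs : isoOpen S s := by
    change IsIso (restr s)
    rw [hs2]
    infer_instance
  refine ⟨A', s, hWs, φ', ?_⟩
  apply ObjectProperty.hom_ext
  ext1
  change restr φ' = restr s ≫ v
  rw [← cancel_epi Γ.toImage.isoOpensRange.hom, ← Category.assoc, he1, Category.id_comp,
    ← cancel_mono B.U.ι, Category.assoc, hφ1, ← Category.assoc, he, ← Category.assoc, hti, hΓ2]

/-- **`(X, X̄) ↦ X` is a localization at the morphisms inducing an isomorphism on open parts.** -/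
theorem isLocalization [QuasiSeparatedSpace S] :
    (openFunctor S).IsLocalization (isoOpen S) := by
  refine Groth.Agent.LD.DF.Gabriel.isLocalization_of_calculus (openFunctor S) (isoOpen S)
    isInvertedBy exists_fraction ?_
  intro A B a b h
  have h1 : restr a = restr b :=
    congrArg (fun m : (openFunctor S).obj A ⟶ (openFunctor S).obj B => m.hom.left) h
  obtain ⟨A', w, hw, hc⟩ := exists_equalizing a b h1
  exact ⟨A', w, hw, hc⟩

end Groth.Agent.LD.CpctLoc
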